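import Mathlib
import Cfsg.Agent.Lib.Comput.Check3
import Cfsg.Agent.Lib.Ru.T.Data

/-! generated by tools/cgt -/

set_option autoImplicit false
set_option maxRecDepth 100000
set_option Elab.async false

namespace CfsgLib.Ru.T

open CfsgLib.Comput

def R7_0 : RepC := ⟨27, 1, [],
  []⟩
def S7_0 : GenC := ⟨27, [],
  [(0, 0, 0, 1, 0), (0, 1, 0, 0, 0)], 0⟩
def L7 : Level := ⟨0x0, 0x4000000, [], 1, 2515, 0, 2, [R7_0], [S7_0]⟩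
def X7 : Ext := []

def R6_0 : RepC := ⟨24, 1, [(27, 27)],
  [(1, 1, [1])]⟩
def R6_1 : RepC := ⟨25, 1, [(27, 27)],
  [(1272, 1, [1])]⟩
def R6_2 : RepC := ⟨0x1918, 1, [(27, 27)],
  [(1272, 1, [1])]⟩
def S6_0 : GenC := ⟨24, [(27, 27)],
  [(0, 0, 0, 1, 0), (0, 1, 0, 0, 0), (0, 2, 0, 3, 0), (0, 3, 0, 2, 0)], 0⟩
def S6_1 : GenC := ⟨25, [(27, 27)],
  [(0, 0, 0, 2, 0), (0, 1, 0, 3, 0), (0, 2, 0, 0, 0), (0, 3, 0, 1, 0)], 0⟩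
def L6 : Level := ⟨0x4000000, 0x7800000, [27], 2, 2535, 0, 4, [R6_0, R6_1, R6_2], [S6_0, S6_1]⟩
def X6 : Ext := [(25, 0, 0x181b)]

def R5_0 : RepC := ⟨21, 1, [(24, 24), (27, 27), (25, 25)],
  [(1232, 1, [1, 2, 3])]⟩
def R5_1 : RepC := ⟨23, 1, [(25, 25), (0x181b, 0x181b), (0x1918, 0x1918)],
  [(1215, 1, [1, 2, 3])]⟩
def R5_2 : RepC := ⟨18, 1, [(24, 24), (25, 25), (27, 27)],
  [(1215, 1, [1, 2, 3])]⟩
def S5_0 : GenC := ⟨21, [(24, 24)],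
  [(0, 0, 0, 1, 0), (0, 1, 0, 0, 0), (0, 2, 0, 3, 0x181b), (0, 3, 0, 2, 0x181b)], 0⟩
def S5_1 : GenC := ⟨23, [(24, 24)],
  [(0, 0, 0, 2, 0), (0, 1, 0, 3, 0x181b), (0, 2, 0, 0, 0), (0, 3, 0, 1, 0x181b)], 0⟩
def L5 : Level := ⟨0x7800000, 0x7f20000, [24, 25, 27], 8, 3727, 0, 4, [R5_0, R5_1, R5_2], [S5_0, S5_1]⟩
def X5 : Ext := [(21, 0, 0x191b), (17, 0, 0x1715181b)]

def R4_0 : RepC := ⟨15, 1, [(21, 21), (0x1718, 0x1719181b), (0x1218, 0x1219181b), (24, 24), (0x191b, 0x191b)],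
  [(1145, 1, [1, 2, 3, 4, 5])]⟩
def S4_0 : GenC := ⟨15, [(0x191b, 0x191b)],
  [(0, 0, 0, 1, 0), (0, 1, 0, 0, 24)], 0⟩
def L4 : Level := ⟨0x7f20000, 0x7ffc000, [21, 23, 24, 25, 27], 32, 3909, 0, 2, [R4_0], [S4_0]⟩
def X4 : Ext := [(15, 15, 0), (16, 0, 0x1518), (18, 0, 0xf1718), (19, 19, 0)]

def R3_0 : RepC := ⟨14, 1, [(0xf15, 0xf12181b), (0x171b, 0x1719), (15, 0xf17), (27, 27)],
  [(810, 3, [1, 2, 3, 4])]⟩
def S3_0 : GenC := ⟨14, [(21, 21)],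
  [(0, 0, 0, 1, 0), (0, 1, 0, 0, 18)], 0⟩
def L3 : Level := ⟨0x7ffc000, 0x7fff800, [15, 21, 23, 24, 25, 27], 64, 3879, 0, 2, [R3_0], [S3_0]⟩
def X3 : Ext := [(12, 14, 0), (11, 0, 0x171b)]

def R2_0 : RepC := ⟨0x80f09, 1, [(0xf1918, 15), (0xe1b, 0xe1219181b), (0x1719, 0x171b)],
  [(1012, 5, [1, 2, 3])]⟩
def R2_1 : RepC := ⟨8, 2, [(0xf1518, 0xe0f1718), (0x1219, 0x1519181b), (0x171918, 0x12191b), (0xf1719, 0xe0f19)],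
  [(1150, 3, [1, 2, 3, 4])]⟩
def R2_2 : RepC := ⟨9, 2, [(0xe0f, 0xf12), (0xe0f121b, 0xf18), (0x1518, 0x121b), (0x19181b, 0x1719181b)],
  [(1143, 3, [1, 2, 3, 4])]⟩
def R2_3 : RepC := ⟨0x909, 2, [(0xe1219, 0xe19), (0x19181b, 0x1719), (14, 14), (23, 0x12181b)],
  [(53, 3, [1, 2, 3, 4])]⟩
def S2_0 : GenC := ⟨9, [(0x121b, 0x1518), (0xf12, 0xe0f)],
  [(0, 0, 0, 3, 0), (0, 2, 0, 0, 0), (0, 3, 0, 4, 0), (0, 4, 0, 2, 0), (0, 1, 15, 3, 0), (14, 2, 0, 1, 0xf1519181b)], 1⟩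
def L2 : Level := ⟨0x7fff800, 0x7ffff80, [14, 15, 21, 23, 24, 25, 27], 128, 3924, 0, 8, [R2_0, R2_1, R2_2, R2_3], [S2_0]⟩
def X2 : Ext := [(7, 9, 0), (9, 0, 0xf19), (10, 10, 0)]

def R1_0 : RepC := ⟨0x704, 1, [(0x1218, 0x90f090e0f1219), (0x812, 0xf12191b), (0x90f171918, 0x80f1b)],
  [(2969, 6, [1, 2, 3]), (1271, 1, [1])]⟩
def R1_1 : RepC := ⟨4, 8, [(0xe15, 0x80f1518), (0xf09171918, 0x90f1918), (0x80e0f1b, 0xe1918)],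
  [(1987, 4, [1, 2, 3])]⟩
def S1_0 : GenC := ⟨5, [(0x90919, 0x80f18), (0xf09191b, 0xf090e17)],
  [(0, 0, 15, 2, 0x919), (0, 2, 0, 0, 0), (15, 2, 27, 2, 0xe080e0f121918), (26, 2, 0, 1, 0xe080e1718), (27, 2, 0, 2, 0xe0f121918), (16, 2, 16, 2, 0xf090f1219), (0, 1, 20, 2, 0xf0919181b)], 1⟩
def L1 : Level := ⟨0x7ffff80, 0x7fffff8, [9, 14, 15, 21, 23, 24, 25, 27], 1024, 4053, 0, 10, [R1_0, R1_1], [S1_0]⟩
def X1 : Ext := [(3, 5, 0), (5, 0, 0x13050e080e0f17181b), (6, 6, 0)]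

def R0_0 : RepC := ⟨29, 10, [(0x1518, 0x90f090f15), (0x80f18, 0xf090e0f1519181b), (0x81718, 0x9090f12191b)],
  [(2711, 5, [1, 2, 3]), (1, 1, [1])]⟩
def R0_1 : RepC := ⟨0x20102, 80, [(0x70e0812, 0x704080e1718), (0x70f121918, 0x70f090e0f1219181b), (0x1805080f12181b, 0x50f091719)],
  [(524, 4, [1, 2, 3])]⟩
def R0_2 : RepC := ⟨0x201, 640, [(0x917191b, 0x6090e15), (0xe080e17, 0x6081219), (21, 0x1a0509090f171918)],
  [(1, 3, [1, 2, 3])]⟩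
def R0_3 : RepC := ⟨1, 1024, [(0x70f090e17181b, 0x70f090e17181b), (0x70f090e1218, 0x70f090e1218)],
  [(312, 3, [1, 2])]⟩
def S0_0 : GenC := ⟨28, [(0xf12, 0x80e0f1719181b), (0x90e1218, 0x90f091b)],
  [(0, 0, 0x704, 1, 0x704080f090e0f1b), (0, 4, 0x130612, 3, 0xf0509090e0f15), (4, 4, 0x1a051a, 4, 0x5090e121b), (0, 3, 0x5060a1b, 3, 0x50e081219181b), (4, 3, 0x1b050e, 4, 0x1b0509090e0f191b), (0, 2, 0xd1a, 3, 0x6090f090e18), (0x506, 3, 0x140d, 2, 0xf0509090f151b), (0, 1, 0, 0, 0), (0x704, 1, 0, 1, 0x704090e0f1b), (0x40d, 2, 4, 1, 0x1805090f090f15), (4, 2, 0x40e, 2, 0x704080e1519), (5, 1, 0x70a, 2, 0x4090f090e1519181b)], 8⟩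
def L0 : Level := ⟨0x7fffff8, 0x1fffffff, [5, 9, 14, 15, 21, 23, 24, 25, 27], 10240, 2305, 0, 1755, [R0_0, R0_1, R0_2, R0_3], [S0_0]⟩
def X0 : Ext := [(28, 28, 0), (0, 0, 0x1d13061c051c051c090e1918), (1, 0, 0x1d12011a050909151b), (2, 2, 0)]

def top : List ℕ := [1, 2]
def gs : List ℕ := [28, 5, 9, 14, 15, 21, 23, 24, 25, 27]
def XD : Ext := [(2, 2, 0), (3, 0, 0x3010301020103010201020102010201030102010301020103010301030102010301020102010201030102), (4, 4, 0), (5, 0, 0x3010201030103010201030103010201020102010303010301030102010201030103010201030102010201), (6, 6, 0), (7, 0, 0x5070704070704), (8, 8, 0), (9, 0, 0x50707050704), (10, 10, 0), (11, 0, 0x9090a0a0808), (12, 0, 0xb090a08), (13, 13, 0), (14, 0, 0x80b090b080a09), (15, 15, 0), (16, 0, 0xc0d0d), (17, 0, 0xd0d), (18, 0, 0xe100d), (19, 19, 0), (20, 0, 0xf110f), (21, 0, 0xf0f1414),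 (22, 0, 0x10131010), (23, 0, 0xf0f), (24, 0, 0x1517181612), (25, 0, 0x151712), (26, 0, 0x1a18), (27, 0, 0x1020103010301), (28, 28, 0)]
def MX : Level.MaxC := [[(0x704, [0x704080f090e0f1b])], [(0x70404, [0xa0e, 0x4080f151b])], [(0x704, [0x80519, 0x70f12])], [(0x7040418, [0x40f, 0xf050e17181b])]]
def NC : NclD := ⟨0x10d1b, 13, [(0, [0x818, 0xa01030f050918]), (1, [3, 0x1d09021c0f05080f091918])]⟩

/-- all the equations of the certificate -/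
structure Eqs {G : Type*} [Group G] (g : ℕ → G) : Prop where
  l7 : AllHold g L7.eqns
  x7 : AllHold g X7.eqns
  l6 : AllHold g L6.eqns
  x6 : AllHold g X6.eqns
  l5 : AllHold g L5.eqns
  x5 : AllHold g X5.eqns
  l4 : AllHold g L4.eqns
  x4 : AllHold g X4.eqns
  l3 : AllHold g L3.eqns
  x3 : AllHold g X3.eqns
  l2 : AllHold g L2.eqns
  x2 : AllHold g X2.eqns
  l1 : AllHold g L1.eqns
  x1 : AllHold g X1.eqns
  l0 : AllHold g L0.eqns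
  x0 : AllHold g X0.eqns
  xd : AllHold g XD.eqns
  mx : AllHold g (L0.maxEqns MX)
  nc : AllHold g NC.eqns

end CfsgLib.Ru.T
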